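import Groth.Agent.Lib.VA.ToPn
import Groth.Agent.Lib.VA.Local
import Groth.Agent.Lib.VA.ProjSpace
import Groth.Agent.Lib.FlatBC.Basic
import Groth.Agent.Lib.EtSite.FpqcDescent
import Groth.Agent.Lib.RelProjK.Local
import Groth.Agent.S1124

/-!
# Very ampleness descends along faithfully flat quasi-compact morphisms
-/

set_option autoImplicit false
set_option linter.all false
set_option backward.isDefEq.respectTransparency false
set_option maxHeartbeats 1000000

universe u

open CategoryTheory CategoryTheory.Limits AlgebraicGeometry TopologicalSpace Opposite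
open GrothLib.InvExt (mres fres IsGen)
open GrothLib.VA

noncomputable section

namespace GrothLib.VADesc29

/-- Every piece of a generating family is embedded, once enough of them are. -/
theorem pieceImm_all {X Y : Scheme.{u}} {g : X ⟶ Y} {L : X.Modules} {E : Y.Modules} (hE : Coh.IsQCoh E)
    (φ : E ⟶ (Scheme.Modules.pushforward g).obj L)
    (hp : ∀ x, ∃ (U : Y.AffineZariskiSite) (e : Γ(E, U.1)), x ∈ Tp g φ U e ∧ PieceImm g φ U e)
    (U : Y.AffineZariskiSite) (e : Γ(E, U.1)) : PieceImm g φ U e := by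
  obtain ⟨B, rfl⟩ := exists_bdl E hE
  obtain ⟨r, θ, h⟩ := Bdl.exists_lift (B := B) (g := g) (φ := φ) fun x => by
    obtain ⟨U, e, hx, -⟩ := hp x
    exact ⟨U.1, U.2, e, mem_genOpen.mp hx⟩
  haveI := h.isImmersion hp
  exact h.pieceImm U e

theorem pieces_id {X Y : Scheme.{u}} {g : X ⟶ Y} {L : X.Modules} (hva : RelProj.IsRelVeryAmple g L) (x : X) :
    ∃ (U : Y.AffineZariskiSite) (e : Γ((Scheme.Modules.pushforward g).obj L, U.1)),
      x ∈ Tp g (𝟙 ((Scheme.Modules.pushforward g).obj L)) U e ∧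
        PieceImm g (𝟙 ((Scheme.Modules.pushforward g).obj L)) U e := by
  obtain ⟨E, φ, -, hp⟩ := isRelVeryAmple_iff.mp hva
  obtain ⟨U, e, hx, hpi⟩ := hp x
  have hT : Tp g (𝟙 ((Scheme.Modules.pushforward g).obj L)) U (φ.app U.1 e) = Tp g φ U e := rfl
  refine ⟨U, φ.app U.1 e, hT.ge hx, pieceImm_transfer hT.le (fun r => ?_) ?_ (fun b => ⟨φ.app U.1 b, ?_⟩) hpi⟩
  · rw [InvExt.fres_fres]
    exact base_mem_RS g (𝟙 ((Scheme.Modules.pushforward g).obj L)) U (φ.app U.1 e) r
  · exact (InvExt.mres_mres L _ _ _).symm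
  · exact (InvExt.mres_mres L _ _ _).symm

section Affine

variable {X Y X' W : Scheme.{u}} [IsAffine Y] [IsAffine W] {f : X ⟶ Y} {h : W ⟶ Y} {p : X' ⟶ X} {pr : X' ⟶ W}
  [Flat h] [Surjective h] [QuasiCompact f] [QuasiSeparated f] {L : X.Modules}

/-- Very ampleness descends along a faithfully flat morphism of affine bases. -/
theorem isRelVeryAmple_of_affine (sq : IsPullback p pr f h) (hL : PicF.IsInvertible L)
    (hva : RelProj.IsRelVeryAmple pr ((Scheme.Modules.pullback p).obj L)) : RelProj.IsRelVeryAmple f L := by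
  haveI : L.IsQuasicoherent := InvExt.isQuasicoherent_of_isInvertible hL
  haveI : CompactSpace X := QuasiCompact.compactSpace_of_compactSpace f
  haveI : QuasiSeparatedSpace X := quasiSeparatedSpace_of_quasiSeparated f
  haveI : QuasiCompact pr := MorphismProperty.of_isPullback sq inferInstance
  haveI : QuasiSeparated pr := MorphismProperty.of_isPullback sq inferInstance
  haveI : QuasiCompact p := MorphismProperty.of_isPullback sq.flip inferInstance
  haveI : Surjective p := MorphismProperty.of_isPullback sq.flip inferInstance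
  let L' := (Scheme.Modules.pullback p).obj L
  have hL' : PicF.IsInvertible L' := RelProjK.isInvertible_pullback p hL
  haveI : L'.IsQuasicoherent := InvExt.isQuasicoherent_of_isInvertible hL'
  let u := (Scheme.Modules.pullbackPushforwardAdjunction p).unit.app L
  let U₀ : Y.AffineZariskiSite := ⟨⊤, isAffineOpen_top Y⟩
  let U₁ : W.AffineZariskiSite := ⟨⊤, isAffineOpen_top W⟩
  let E' := (Scheme.Modules.pushforward pr).obj L'
  have hE' : Coh.IsQCoh E' := QCoh.isQuasicoherent_pushforward pr L'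
  have himm := pieceImm_all hE' (𝟙 E') (pieces_id hva)
  let P₀ : X'.Opens := FlatBC.upU p pr ⊤ ⊤
  have hP₀' : P₀ ≤ pr ⁻¹ᵁ ⊤ := inf_le_right
  have hP₀ : pr ⁻¹ᵁ ⊤ ≤ P₀ := fun x _ => ⟨trivial, trivial⟩
  have hflat : (h.appLE ⊤ ⊤ (le_top : (⊤ : W.Opens) ≤ h ⁻¹ᵁ ⊤)).hom.Flat :=
    HasRingHomProperty.appLE (P := @Flat) h inferInstance ⟨⊤, isAffineOpen_top Y⟩ ⟨⊤, isAffineOpen_top W⟩ _
  have hqs : IsQuasiSeparated ((f ⁻¹ᵁ (⊤ : Y.Opens) : X.Opens) : Set X) := by
    rw [Scheme.Hom.preimage_top]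
    exact isQuasiSeparated_univ_iff.2 inferInstance
  obtain ⟨-, hsur⟩ := FlatBC.bij_of_isCompact sq L (V := ⊤) (W := ⊤) le_top (isAffineOpen_top Y)
    (isAffineOpen_top W) hflat hqs (U := ⊤) isCompact_univ le_top
  let pull : Γ(L, (⊤ : X.Opens)) → Γ(L', P₀) := fun a =>
    mres L' (inf_le_left : P₀ ≤ p ⁻¹ᵁ ⊤) (show Γ(L', p ⁻¹ᵁ ⊤) from u.app ⊤ a)
  let scal : Γ(W, ⊤) → Γ(X', P₀) := fun w => pr.appLE ⊤ P₀ inf_le_right w
  -- every section upstairs is a combination of pulled-back sections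
  have span : ∀ (Q : Γ(L', P₀) → Prop), Q 0 → (∀ a b, Q a → Q b → Q (a + b)) →
      (∀ w a, Q (scal w • pull a)) → ∀ y, Q y := by
    intro Q h0 hadd hw y
    letI : Algebra Γ(Y, ⊤) Γ(W, ⊤) := (h.appLE ⊤ ⊤ le_top).hom.toAlgebra
    letI : Module Γ(Y, ⊤) (FlatBC.secM pr L' ⊤ P₀ inf_le_right) :=
      Module.compHom _ (h.appLE ⊤ ⊤ le_top).hom
    haveI : IsScalarTower Γ(Y, ⊤) Γ(W, ⊤) (FlatBC.secM pr L' ⊤ P₀ inf_le_right) :=
      IsScalarTower.of_algebraMap_smul fun _ _ => rfl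
    obtain ⟨z, rfl⟩ := hsur y
    induction z using TensorProduct.induction_on with
    | zero => rw [map_zero]; exact h0
    | add a b ha hb => rw [map_add]; exact hadd _ _ ha hb
    | tmul w a =>
      rw [LinearMap.liftBaseChange_tmul]
      exact hw w (show Γ(L, (⊤ : X.Opens)) from a)
  refine isRelVeryAmple_iff.mpr ⟨_, 𝟙 _, QCoh.isQuasicoherent_pushforward f L, fun x => ?_⟩
  -- a section generating at x
  obtain ⟨x', rfl⟩ := p.surjective x
  obtain ⟨s, hs⟩ : ∃ s : Γ(L, (⊤ : X.Opens)), GenAt L s (p x') := by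
    by_contra hcon
    push Not at hcon
    obtain ⟨U, e, hx, hpi⟩ := pieces_id hva x'
    obtain ⟨e₀, he₀, -⟩ := exists_global_piece hL' hE' (𝟙 E') hx hpi
    have key : ∀ y : Γ(L', P₀), ¬ GenAt L' y x' := by
      refine span _ ?_ (fun a b ha hb hab => (genAt_add hL' hab).elim ha hb) fun w a hwa => ?_
      · intro h0
        rw [← zero_smul Γ(X', P₀) (0 : Γ(L', P₀)), genAt_smul_iff hL', Scheme.basicOpen_zero] at h0
        exact h0.1
      · exact hcon a ((genAt_unit_iff p hL a).mp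
          ((genAt_mres (inf_le_left : P₀ ≤ p ⁻¹ᵁ ⊤) _).mp ((genAt_smul_iff hL' _ _).mp hwa).2).2)
    refine key (mres L' hP₀' (show Γ(L', pr ⁻¹ᵁ ⊤) from e₀)) ?_
    exact (genAt_mres _ _).mpr ⟨⟨trivial, trivial⟩, mem_genOpen.mp he₀⟩
  let φ := 𝟙 ((Scheme.Modules.pushforward f).obj L)
  let e : Γ((Scheme.Modules.pushforward f).obj L, U₀.1) := s
  refine ⟨U₀, e, mem_genOpen.mpr hs, ?_⟩
  let T : X.Opens := Tp f φ U₀ e
  let Tu : X'.Opens := p ⁻¹ᵁ T
  let G : Γ(L', Tu) := mres L' (le_refl Tu) (show Γ(L', p ⁻¹ᵁ T) from u.app T (gp f φ U₀ e e))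
  have hG : IsGen L' Tu G := (isGen_unit p hL (isGen_gp f φ U₀ e)).restrict le_rfl
  let e' : Γ(E', U₁.1) := mres L' hP₀ (pull s)
  let T' : X'.Opens := Tp pr (𝟙 E') U₁ e'
  have hle : Tu ≤ T' := fun y hy => mem_genOpen.mpr ((genAt_mres hP₀ (pull s)).mpr
    ⟨trivial, (genAt_mres _ _).mpr ⟨⟨trivial, trivial⟩, (genAt_unit_iff p hL s).mpr (mem_genOpen.mp hy)⟩⟩)
  have hTu : Tu ≤ P₀ := fun y _ => ⟨trivial, trivial⟩
  let ρ : Γ(X, T) →+* Γ(X', Tu) := (p.appLE T Tu le_rfl).hom
  have hpull : ∀ a, mres L' hTu (pull a) = ρ (rat f φ U₀ e a) • G := fun a => by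
    have h1 : mres L' hTu (pull a) = mres L' (le_refl Tu) (show Γ(L', p ⁻¹ᵁ T) from u.app T (gp f φ U₀ e a)) := by
      refine Eq.trans ?_ (congrArg (mres L' (le_refl Tu)) (Ample.app_mres u (Tp_le f φ U₀ e) a)).symm
      exact (InvExt.mres_mres L' _ _ _).trans (InvExt.mres_mres L' _ _ _).symm
    refine h1.trans ?_
    refine (congrArg (mres L' (le_refl Tu)) ((congrArg (u.app T) (rat_spec f φ U₀ e a)).trans
      (Ample.app_smul u (rat f φ U₀ e a) _))).trans ?_
    refine (InvExt.mres_smul L' _ _ _).trans (congrArg (· • G) ?_)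
    rfl
  have hG' : mres L' hle (gp pr (𝟙 E') U₁ e' e') = G := by
    have h1 : mres L' hle (gp pr (𝟙 E') U₁ e' e') = mres L' hTu (pull s) :=
      (InvExt.mres_mres L' _ _ _).trans (InvExt.mres_mres L' _ _ _)
    refine h1.trans ((hpull s).trans ?_)
    rw [show rat f φ U₀ e s = 1 from rat_eq (one_smul _ _).symm, map_one, one_smul]
  -- the morphism to the base change of the chart
  let A := RS f φ U₀ e
  let hA : A →+* Γ((T : Scheme.{u}), ⊤) := T.topIso.inv.hom.comp A.subtype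
  let bA : Γ(Y, U₀.1) →+* A :=
    ((X.presheaf.map (homOfLE (Tp_le f φ U₀ e)).op).hom.comp (f.app U₀.1).hom).codRestrict _
      (fun r => base_mem_RS f φ U₀ e r)
  let πA : Spec (CommRingCat.of A) ⟶ Y := Spec.map (CommRingCat.ofHom bA) ≫ U₀.2.fromSpec
  have hTU : T ≤ f ⁻¹ᵁ U₀.1 := Tp_le f φ U₀ e
  have e1 : T.ι ≫ f = toAff hA ≫ πA := by
    rw [eq_toSpecΓ_fromSpec U₀.2 (T.ι ≫ f) (fun y _ => hTU y.2), toAff, Category.assoc, ← Spec.map_comp_assoc]
    congr 3
    refine CommRingCat.hom_ext (RingHom.ext fun r => ?_)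
    rw [← Scheme.Hom.appLE_comp_appLE T.ι f U₀.1 T ⊤ hTU T.ι_preimage_self.ge, Scheme.Opens.ι_appLE]
    rfl
  let q : (Tu : Scheme.{u}) ⟶ (T : Scheme.{u}) := p.resLE T Tu le_rfl
  have sqT : IsPullback q (Tu.ι ≫ pr) (toAff hA ≫ πA) h := by
    have h1 := (isPullback_morphismRestrict p T).paste_vert sq
    rw [← Scheme.Hom.resLE_eq_morphismRestrict] at h1
    rw [← e1]
    exact h1
  let m : (Tu : Scheme.{u}) ⟶ pullback πA h :=
    pullback.lift (q ≫ toAff hA) (Tu.ι ≫ pr) (by rw [Category.assoc]; exact sqT.w)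
  have sqm : IsPullback q m (toAff hA) (pullback.fst πA h) :=
    IsPullback.of_bot (by rw [show m ≫ pullback.snd πA h = Tu.ι ≫ pr from pullback.lift_snd _ _ _]; exact sqT)
      (pullback.lift_fst _ _ _).symm (IsPullback.of_hasPullback πA h)
  let R : Subring Γ(X', Tu) := m.appTop.hom.range.comap Tu.topIso.inv.hom
  have hbase : ∀ w, scal w = pr.appLE ⊤ P₀ inf_le_right w := fun w => rfl
  have hRw : ∀ w : Γ(W, ⊤), fres X' hTu (scal w) ∈ R := fun w => by
    refine ⟨(pullback.snd πA h).appTop w, ?_⟩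
    show (m ≫ pullback.snd πA h).appTop w = Tu.topIso.inv (fres X' hTu (fres X' inf_le_right (pr.app ⊤ w)))
    rw [show m ≫ pullback.snd πA h = Tu.ι ≫ pr from pullback.lift_snd _ _ _]
    show Tu.ι.appTop (pr.appTop w) = _
    rw [Scheme.Opens.ι_appTop, Scheme.Opens.topIso_inv, InvExt.fres_fres]
    exact (InvExt.fres_fres (X := X') _ _ _).symm
  have hRρ : ∀ a : A, ρ a.1 ∈ R := fun a => by
    refine ⟨(pullback.fst πA h).appTop ((Scheme.ΓSpecIso (CommRingCat.of A)).inv a), ?_⟩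
    show (m ≫ pullback.fst πA h).appTop _ = Tu.topIso.inv (p.appLE T Tu le_rfl a.1)
    rw [show m ≫ pullback.fst πA h = q ≫ toAff hA from pullback.lift_fst _ _ _]
    show q.appTop ((toAff hA).appTop _) = _
    rw [toAff_appTop]
    exact appTop_resLE_topIso p le_rfl a.1
  -- every upstairs ratio comes from the base change of the chart
  have hrat : ∀ b : Γ(E', U₁.1), fres X' hle (rat pr (𝟙 E') U₁ e' b) ∈ R := fun b => by
    obtain ⟨c, hc, hcG⟩ : ∃ c ∈ R, mres L' hTu
        (mres L' hP₀' (show Γ(L', pr ⁻¹ᵁ ⊤) from b)) = c • G := by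
      refine span (fun y => ∃ c ∈ R, mres L' hTu y = c • G) ⟨0, zero_mem R, ?_⟩ ?_ (fun w a => ?_) _
      · rw [zero_smul]; exact map_zero _
      · rintro a a' ⟨c, hc, hca⟩ ⟨c', hc', hca'⟩
        refine ⟨c + c', add_mem hc hc', ?_⟩
        rw [add_smul, ← hca, ← hca']
        exact map_add _ _ _
      · refine ⟨_, mul_mem (hRw w) (hRρ ⟨_, rat_mem_RS f φ U₀ e a⟩), ?_⟩
        refine (InvExt.mres_smul L' hTu _ _).trans ?_
        rw [hpull, smul_smul]
    have h2 : mres L' hle (gp pr (𝟙 E') U₁ e' b) = fres X' hle (rat pr (𝟙 E') U₁ e' b) • G := by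
      rw [rat_spec pr (𝟙 E') U₁ e' b, InvExt.mres_smul, hG']
    have h3 : mres L' hle (gp pr (𝟙 E') U₁ e' b) = c • G := by
      refine Eq.trans ?_ hcG
      exact (InvExt.mres_mres L' _ _ _).trans (InvExt.mres_mres L' _ _ _).symm
    have h4 : fres X' hle (rat pr (𝟙 E') U₁ e' b) = c :=
      hG.smul_left_injective le_rfl (by rw [InvExt.mres_self, ← h2, h3])
    rw [h4]; exact hc
  haveI : IsImmersion m := by
    let P := pullback πA h
    haveI h0 : IsImmersion (toAff (T'.topIso.inv.hom.comp (RS pr (𝟙 E') U₁ e').subtype)) := himm U₁ e'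
    have h1 : IsImmersion (toAff (((X'.homOfLE hle).appTop.hom).comp
        (T'.topIso.inv.hom.comp (RS pr (𝟙 E') U₁ e').subtype))) := by
      rw [← comp_toAff]; infer_instance
    have h2 : IsImmersion (toAff m.appTop.hom) := by
      refine isImmersion_toAff_of_range_le _ _ ?_ h1
      rintro _ ⟨a, rfl⟩
      have h3 : fres X' hle a.1 ∈ R :=
        map_mem_of_RS (X'.presheaf.map (homOfLE hle).op).hom R (fun r => by
          have := hRw r
          rw [show scal r = fres X' hP₀' (pr.app ⊤ r) from rfl, InvExt.fres_fres] at this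
          show fres X' hle (fres X' _ (pr.app ⊤ r)) ∈ R
          rw [InvExt.fres_fres]
          exact this) hrat a.2
      show (X'.homOfLE hle).appTop (T'.topIso.inv a.1) ∈ _
      rw [show (X'.homOfLE hle).appTop (T'.topIso.inv a.1) = Tu.topIso.inv (fres X' hle a.1) from oRes_topIso hle a.1]
      exact h3
    rw [toAff_appTop_hom] at h2
    exact IsImmersion.of_comp m P.isoSpec.hom
  haveI : CompactSpace (Tu : Scheme.{u}) := isCompact_iff_compactSpace.mp
    (p.isCompact_preimage (isCompact_genOpen hL isCompact_univ s))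
  haveI : QuasiCompact m := (quasiCompact_iff_compactSpace m).mpr inferInstance
  haveI := Groth.Agent.S1124.result.{u}
  have key := MorphismProperty.of_isPullback_of_descendsAlong (P := (@IsImmersion ⊓ @QuasiCompact : MorphismProperty Scheme.{u}))
    (Q := GrothLib.EtSite.fpqcCov) sqm.flip
    ⟨⟨MorphismProperty.pullback_fst _ _ inferInstance, MorphismProperty.pullback_fst _ _ inferInstance⟩,
      MorphismProperty.pullback_fst _ _ inferInstance⟩ ⟨inferInstance, inferInstance⟩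
  exact key.1

end Affine

section Global

variable {X Y X' Y' : Scheme.{u}} {f : X ⟶ Y} {g : Y' ⟶ Y} {p : X' ⟶ X} {f' : X' ⟶ Y'}

/-- **Very ampleness descends along quasi-compact flat surjections.** -/
theorem isRelVeryAmple_of_isPullback (sq : IsPullback p f' f g) [QuasiCompact f] [QuasiCompact g] [Flat g] [Surjective g]
    {L : X.Modules} (hL : PicF.IsInvertible L)
    (hva : RelProj.IsRelVeryAmple f' ((Scheme.Modules.pullback p).obj L)) : RelProj.IsRelVeryAmple f L := by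
  haveI : L.IsQuasicoherent := InvExt.isQuasicoherent_of_isInvertible hL
  haveI := isSeparated_of_isRelVeryAmple hva
  haveI : IsSeparated f := MorphismProperty.of_isPullback_of_descendsAlong (P := @IsSeparated)
    (Q := GrothLib.EtSite.fpqcCov) sq.flip ⟨⟨inferInstance, inferInstance⟩, inferInstance⟩ inferInstance
  refine (isRelVeryAmple_iff_local f L hL (fun V : Y.affineOpens => V.1) (iSup_affineOpens_eq_top Y)).mpr fun V => ?_
  obtain ⟨s, hs, hcov⟩ := (isCompact_and_isOpen_iff_finite_and_eq_biUnion_affineOpens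
    (U := ((g ⁻¹ᵁ V.1 : Y'.Opens) : Set Y'))).mp ⟨g.isCompact_preimage V.2.isCompact, (g ⁻¹ᵁ V.1).2⟩
  haveI : Finite s := hs.to_subtype
  haveI : ∀ U : s, IsAffine ((U.1.1 : Y'.Opens) : Scheme.{u}) := fun U => U.1.2
  let W : Scheme.{u} := ∐ fun U : s => ((U.1.1 : Y'.Opens) : Scheme.{u})
  let ρ : W ⟶ Y' := Sigma.desc fun U : s => U.1.1.ι
  have hρV : ∀ w, g (ρ w) ∈ V.1 := by
    intro w
    obtain ⟨⟨U, z⟩, rfl⟩ := (sigmaMk fun U : s => ((U.1.1 : Y'.Opens) : Scheme.{u})).surjective w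
    rw [sigmaMk_mk]
    rw [← Scheme.Hom.comp_apply, ← Scheme.Hom.comp_apply]
    show (Sigma.ι _ U ≫ ρ ≫ g) z ∈ V.1
    rw [← Category.assoc, Sigma.ι_desc]
    show U.1.1.ι z ∈ ((g ⁻¹ᵁ V.1 : Y'.Opens) : Set Y')
    rw [hcov]
    exact Set.mem_biUnion U.2 z.2
  let w : W ⟶ V.1 := IsOpenImmersion.lift V.1.ι (ρ ≫ g) (by
    rw [V.1.range_ι]
    rintro _ ⟨z, rfl⟩
    exact hρV z)
  have hw : w ≫ V.1.ι = ρ ≫ g := IsOpenImmersion.lift_fac _ _ _
  haveI : Flat w := by
    haveI : Flat ρ := IsZariskiLocalAtSource.sigmaDesc fun U => inferInstance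
    haveI : Flat (w ≫ V.1.ι) := hw ▸ inferInstance
    exact MorphismProperty.of_postcomp (W := @Flat) (W' := @IsOpenImmersion) w V.1.ι inferInstance inferInstance
  haveI : Surjective w := by
    constructor
    intro v
    obtain ⟨y, hy⟩ := g.surjective v.1
    have hy' : y ∈ ((g ⁻¹ᵁ V.1 : Y'.Opens) : Set Y') := by
      show g y ∈ V.1
      rw [hy]; exact v.2
    rw [hcov] at hy'
    obtain ⟨U, hU, hyU⟩ := Set.mem_iUnion₂.mp hy'
    refine ⟨Sigma.ι (fun U : s => ((U.1.1 : Y'.Opens) : Scheme.{u})) ⟨U, hU⟩ ⟨y, hyU⟩, V.1.ι.isOpenEmbedding.injective ?_⟩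
    rw [← Scheme.Hom.comp_apply, hw, ← Scheme.Hom.comp_apply, ← Category.assoc, Sigma.ι_desc]
    exact hy
  haveI : IsAffine (V.1 : Scheme.{u}) := V.2
  let Z := Limits.pullback f' ρ
  let k : Z ⟶ X' := pullback.fst f' ρ
  let pr : Z ⟶ W := pullback.snd f' ρ
  have sqZ : IsPullback k pr f' ρ := IsPullback.of_hasPullback _ _
  have sqZX : IsPullback (k ≫ p) pr f (w ≫ V.1.ι) := hw ▸ sqZ.paste_horiz sq
  let XV : X.Opens := f ⁻¹ᵁ V.1
  have sqV : IsPullback XV.ι (f ∣_ V.1) f V.1.ι := (isPullback_morphismRestrict f V.1).flip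
  let l : Z ⟶ (XV : Scheme.{u}) := sqV.lift (k ≫ p) (pr ≫ w) (by rw [sqZX.w, Category.assoc])
  have hl : l ≫ XV.ι = k ≫ p := sqV.lift_fst _ _ _
  have sqL : IsPullback l pr (f ∣_ V.1) w :=
    IsPullback.of_right (by rw [hl]; exact sqZX) (sqV.lift_snd _ _ _) sqV
  have hinv : PicF.IsInvertible (L.restrict XV.ι) :=
    RelProjK.isInvertible_of_iso ((Scheme.Modules.restrictFunctorIsoPullback XV.ι).app L)
      (RelProjK.isInvertible_pullback XV.ι hL)
  haveI : QuasiCompact (f ∣_ V.1) := IsZariskiLocalAtTarget.restrict (P := @QuasiCompact) inferInstance _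
  haveI : IsSeparated (f ∣_ V.1) := IsZariskiLocalAtTarget.restrict (P := @IsSeparated) inferInstance _
  have hZ := isRelVeryAmple_baseChange sqZ (RelProjK.isInvertible_pullback p hL) hva
  let e : (Scheme.Modules.pullback k).obj ((Scheme.Modules.pullback p).obj L) ≅
      (Scheme.Modules.pullback l).obj (L.restrict XV.ι) :=
    (Scheme.Modules.pullbackComp k p).app L ≪≫ (Scheme.Modules.pullbackCongr hl.symm).app L ≪≫
      ((Scheme.Modules.pullbackComp l XV.ι).app L).symm ≪≫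
        (Scheme.Modules.pullback l).mapIso ((Scheme.Modules.restrictFunctorIsoPullback XV.ι).app L).symm
  exact isRelVeryAmple_of_affine sqL hinv (isRelVeryAmple_of_iso e hZ)

/-- Locally very ample in the sense of embeddings into projective spaces is very ample. -/
theorem pn_local_iff (f : X ⟶ Y) [LocallyOfFiniteType f] [QuasiCompact f] {L : X.Modules} (hL : PicF.IsInvertible L) :
    (∀ y : Y, ∃ U : Y.Opens, y ∈ U ∧ RelAmple.IsRelVeryAmplePn (f ∣_ U) (L.restrict (f ⁻¹ᵁ U).ι)) ↔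
      RelProj.IsRelVeryAmple f L := by
  haveI : L.IsQuasicoherent := InvExt.isQuasicoherent_of_isInvertible hL
  constructor
  · intro h
    choose U hy hU using h
    refine (isRelVeryAmple_iff_local f L hL U ?_).mpr fun y => isRelVeryAmple_of_pn (hU y)
    exact eq_top_iff.mpr fun y _ => Opens.mem_iSup.mpr ⟨y, hy y⟩
  · intro h y
    obtain ⟨U, hU, hy, -⟩ := exists_isAffineOpen_mem_and_subset (Opens.mem_top y)
    haveI : IsAffine (U : Scheme.{u}) := hU
    haveI : QuasiCompact (f ∣_ U) := IsZariskiLocalAtTarget.restrict (P := @QuasiCompact) inferInstance _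
    haveI : LocallyOfFiniteType (f ∣_ U) := IsZariskiLocalAtTarget.restrict (P := @LocallyOfFiniteType) inferInstance _
    exact ⟨U, hy, isRelVeryAmplePn_of_isRelVeryAmple (f ∣_ U)
      (RelProjK.isInvertible_of_iso ((Scheme.Modules.restrictFunctorIsoPullback _).app L)
        (RelProjK.isInvertible_pullback _ hL))
      ((isRelVeryAmple_iff_local f L hL (fun V : Y.affineOpens => V.1) (iSup_affineOpens_eq_top Y)).mp h ⟨U, hU⟩)⟩

end Global

end GrothLib.VADesc29
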